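import Cfsg.Agent.Lib.Chars.Completeness
import Cfsg.Agent.Lib.Chars.Integral
import Cfsg.Agent.Lib.Blocks.LocalRing
import Cfsg.Agent.Lib.Blocks.ClassAlgebra
import Cfsg.Agent.Lib.Blocks.HeightZero
import Cfsg.Agent.Lib.CharCount.Basic

/-!
# Congruences of character values, and squares of central characters in characteristic two
-/

set_option autoImplicit false

namespace Cfsg.Agent.Lib.BlockCongr

open Cfsg Cfsg.Agent.Lib Cfsg.Agent.Lib.Blocks
open scoped ComplexConjugate

universe u

variable {G : Type u} [Group G] [Finite G]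

omit [Finite G] in
theorem charDegree_isCharacter {χ : G → ℂ} (hχ : IsCharacter G χ) :
    (charDegree χ : ℂ) = χ 1 := by
  obtain ⟨n, hn⟩ := Chars.isCharacter_exists_degree hχ
  rw [charDegree, hn]; simp

/-- An element splits as a `p`-part and a `p`-regular part, both powers of it. -/
theorem exists_split {p : ℕ} (hp : p.Prime) (g : G) : ∃ m n j : ℕ,
    (g ^ n) ^ p ^ j = 1 ∧ g ^ (m + n) = g ∧ ¬ p ∣ orderOf (g ^ m) := by
  have ho : orderOf g ≠ 0 := (orderOf_pos g).ne'
  set a := (orderOf g).factorization p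
  set r := orderOf g / p ^ a
  have hr : p ^ a * r = orderOf g := Nat.ordProj_mul_ordCompl_eq_self _ p
  have hpr : ¬ p ∣ r := Nat.not_dvd_ordCompl hp ho
  have hco : Nat.Coprime (p ^ a) r := (hp.coprime_iff_not_dvd.mpr hpr).pow_left a
  obtain ⟨n, hn1, hn2⟩ := Nat.chineseRemainder hco 1 0
  obtain ⟨m, hm1, hm2⟩ := Nat.chineseRemainder hco 0 1
  refine ⟨m, n, a, ?_, ?_, ?_⟩
  · rw [← pow_mul]
    apply orderOf_dvd_iff_pow_eq_one.mp
    rw [← hr, mul_comm n]
    exact Nat.mul_dvd_mul_left _ (Nat.modEq_zero_iff_dvd.mp hn2)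
  · have h : m + n ≡ 1 [MOD orderOf g] := by
      rw [← hr]
      exact (Nat.modEq_and_modEq_iff_modEq_mul hco).mp
        ⟨by simpa using hm1.add hn1, by simpa using hm2.add hn2⟩
    rw [pow_eq_pow_iff_modEq.mpr h, pow_one]
  · intro hd
    apply hpr
    refine hd.trans (orderOf_dvd_of_pow_eq_one ?_)
    rw [← pow_mul]
    apply orderOf_dvd_iff_pow_eq_one.mp
    rw [← hr]
    exact Nat.mul_dvd_mul_right (Nat.modEq_zero_iff_dvd.mp hm1) r

/-- The `p`-part does not matter modulo `M`. -/
theorem char_congr_of_pow {p : ℕ} {M : Ideal AlgInt} [M.IsPrime] (hM : IsPModular p M)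
    {χ : G → ℂ} (hχ : IsCharacter G χ) {g : G} {m n j : ℕ}
    (h1 : (g ^ n) ^ p ^ j = 1) (h2 : g ^ (m + n) = g) :
    MemLocalIdeal M (χ g - χ (g ^ m)) := by
  obtain ⟨d, ρ, rfl⟩ := hχ
  obtain ⟨ι, _, b, μ, hμ, hb⟩ := Chars.exists_eigenbasis ρ g
  have hpow : ∀ (k : ℕ) (i : ι), ρ (g ^ k) (b i) = μ i ^ k • b i := by
    intro k i
    induction k with
    | zero => simp
    | succ k ih => rw [pow_succ', map_mul, Module.End.mul_apply, ih, map_smul, hb, smul_smul,
        ← pow_succ]
  have hsmul : ∀ i {a c : ℂ}, a • b i = c • b i → a = c := fun i {a c} h =>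
    smul_left_injective ℂ (b.ne_zero i) h
  have hroot : ∀ i, (μ i ^ n) ^ p ^ j = 1 := fun i => by
    apply hsmul i
    rw [← pow_mul, ← hpow, pow_mul, h1]
    simp
  have hsum : ∀ i, μ i = μ i ^ m * μ i ^ n := fun i => by
    apply hsmul i
    rw [← pow_add, ← hpow, h2, hb]
  have e1 : ρ.character g = ∑ i, μ i := Chars.trace_eq_sum_of_eigenbasis _ b μ hb
  have e2 : ρ.character (g ^ m) = ∑ i, μ i ^ m :=
    Chars.trace_eq_sum_of_eigenbasis _ b _ (hpow m)
  rw [e1, e2, ← Finset.sum_sub_distrib]
  refine memLocalIdeal_sum _ _ fun i _ => ?_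
  rw [show μ i - μ i ^ m = μ i ^ m * (μ i ^ n - 1) by rw [mul_sub, mul_one, ← hsum i]]
  refine memLocalIdeal_mul_left ?_ (memLocalIdeal_sub_one_of_pow_eq_one hM (hroot i))
  exact mem_localRing.mp (isIntegral_mem_localRing
    ((IsIntegral.of_pow (orderOf_pos g) (hμ i ▸ isIntegral_one)).pow m))

theorem char_congr_one {p : ℕ} {M : Ideal AlgInt} [M.IsPrime] (hM : IsPModular p M)
    {χ : G → ℂ} (hχ : IsCharacter G χ) {g : G} {j : ℕ} (h : g ^ p ^ j = 1) :
    MemLocalIdeal M (χ g - χ 1) := by
  have := char_congr_of_pow hM hχ (g := g) (m := 0) (n := 1) (j := j) (by simpa using h) (by simp)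
  simpa using this

omit [Finite G] in
theorem centralizer_inv_eq (g : G) :
    Subgroup.centralizer ({g⁻¹} : Set G) = Subgroup.centralizer ({g} : Set G) := by
  ext x
  simp only [Subgroup.mem_centralizer_singleton_iff]
  exact ⟨fun h => (Commute.inv_right_iff.mp h).eq, fun h => (Commute.inv_right_iff.mpr h).eq⟩

omit [Finite G] in
theorem index_centralizer_eq_of_isConj {g h : G} (hc : IsConj g h) :
    (Subgroup.centralizer ({g} : Set G)).index = (Subgroup.centralizer ({h} : Set G)).index := by
  rw [← natCard_isConj, ← natCard_isConj]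
  exact Nat.card_congr (Equiv.subtypeEquivRight fun x =>
    ⟨fun hx => hc.symm.trans hx, fun hx => hc.trans hx⟩)

theorem centralChar_trivial (g : G) :
    centralChar (fun _ : G => (1 : ℂ)) g = ((Subgroup.centralizer ({g} : Set G)).index : ℂ) := by
  simp [centralChar]

theorem memLocalRing_centralChar (M : Ideal AlgInt) [M.IsPrime] (χ : IrrCharacter G) (g : G) :
    MemLocalRing M (centralChar (χ : G → ℂ) g) :=
  mem_localRing.mp (isIntegral_mem_localRing (centralChar_isIntegral χ g))

theorem centralChar_eq_of_isConj (χ : IrrCharacter G) {g h : G} (hc : IsConj g h) :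
    centralChar (χ : G → ℂ) h = centralChar (χ : G → ℂ) g := by
  rw [centralChar, centralChar, index_centralizer_eq_of_isConj hc,
    Chars.isClassFunction_apply_eq (Chars.irr_isClassFunction χ) hc]

open Classical in
/-- The product of the central characters at `g` and `g⁻¹`. -/
theorem centralChar_mul_inv [Fintype G] (χ : IrrCharacter G) (g : G) :
    centralChar (χ : G → ℂ) g * centralChar (χ : G → ℂ) g⁻¹ =
      ∑ z : G, ((Finset.univ.filter fun x => IsConj g x ∧ IsConj g (z⁻¹ * x)).card : ℂ) *
        ((χ : G → ℂ) z / (χ : G → ℂ) 1) := by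
  rw [← omega_classSum (Chars.irr_isClassFunction χ), ← omega_classSum (Chars.irr_isClassFunction χ),
    ← omega_mul χ (classSum_mem_center g), omega_eq_sum]
  refine Finset.sum_congr rfl fun z _ => ?_
  congr 1
  have hdec : classSum ℂ g = ∑ x : G, MonoidAlgebra.single x ((classSum ℂ g).coeff x) := by
    ext y
    simp only [MonoidAlgebra.coeff_sum, Finsupp.coe_finsetSum, Finset.sum_apply,
      MonoidAlgebra.coeff_single, Finsupp.single_apply, Finset.sum_ite_eq', Finset.mem_univ,
      if_true]
  conv_lhs => rw [hdec, Finset.sum_mul]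
  simp only [MonoidAlgebra.coeff_sum, Finsupp.coe_finsetSum, Finset.sum_apply,
    MonoidAlgebra.coeff_single_mul_apply, coeff_classSum, ite_mul, one_mul, zero_mul]
  rw [Finset.card_filter, Nat.cast_sum]
  refine Finset.sum_congr rfl fun x _ => ?_
  have : IsConj g⁻¹ (x⁻¹ * z) ↔ IsConj g (z⁻¹ * x) := by
    rw [isConj_iff, isConj_iff]
    refine exists_congr fun c => ⟨fun h => ?_, fun h => ?_⟩
    · rw [show c * g * c⁻¹ = (c * g⁻¹ * c⁻¹)⁻¹ by group, h]; group
    · rw [show c * g⁻¹ * c⁻¹ = (c * g * c⁻¹)⁻¹ by group, h]; group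
  by_cases h1 : IsConj g x
  · by_cases h2 : IsConj g (z⁻¹ * x)
    · rw [if_pos h1, if_pos (this.mpr h2), if_pos ⟨h1, h2⟩, Nat.cast_one]
    · rw [if_pos h1, if_neg (mt this.mp h2), if_neg (fun h => h2 h.2), Nat.cast_zero]
  · rw [if_neg h1, if_neg (fun h => h1 h.1), Nat.cast_zero]

/-- A central character over a prime above `2` that is invariant under inversion, and trivial on
the classes fixed by inversion, is the principal one. -/
theorem sameBlock_one_of_inv_invariant {M : Ideal AlgInt} (hM : IsPModular 2 M)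
    (χ : IrrCharacter G)
    (hinv : ∀ z : G, MemLocalIdeal M (centralChar (χ : G → ℂ) z⁻¹ - centralChar (χ : G → ℂ) z))
    (hfix : ∀ z : G, IsConj z z⁻¹ →
      MemLocalIdeal M (centralChar (χ : G → ℂ) z - ((Subgroup.centralizer ({z} : Set G)).index : ℂ))) :
    SameBlock M (fun _ : G => (1 : ℂ)) (χ : G → ℂ) := by
  classical
  have : M.IsPrime := isPModular_isPrime hM
  cases nonempty_fintype G
  intro g
  rw [centralChar_trivial]
  let R := Residue M
  have : CharP R 2 := charP_residue hM
  let w : G → R := fun z => residue M ⟨centralChar (χ : G → ℂ) z, memLocalRing_centralChar M χ z⟩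
  let u : G → R := fun z => ((Subgroup.centralizer ({z} : Set G)).index : R)
  have hcast : ∀ n : ℕ, residue M (n : localRing M) = (n : R) := fun n => map_natCast _ n
  have hwinv : ∀ z, w z⁻¹ = w z := fun z => residue_eq_iff.mpr (hinv z)
  have hwfix : ∀ z, IsConj z z⁻¹ → w z = u z := fun z hz => by
    show residue M _ = _
    rw [show u z = residue M ((Subgroup.centralizer ({z} : Set G)).index : localRing M) from
      (hcast _).symm, residue_eq_iff]
    simpa using hfix z hz
  -- grouping the product formula by classes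
  let F : G → ℕ := fun z => (Finset.univ.filter fun x => IsConj g x ∧ IsConj g (z⁻¹ * x)).card
  have hFinv : ∀ z, F z⁻¹ = F z := by
    intro z
    refine Finset.card_bij' (fun x _ => z * x) (fun x _ => z⁻¹ * x) ?_ ?_ ?_ ?_
    · intro x hx
      simp only [Finset.mem_filter, Finset.mem_univ, true_and, inv_inv] at hx ⊢
      exact ⟨hx.2, by rw [inv_mul_cancel_left]; exact hx.1⟩
    · intro x hx
      simp only [Finset.mem_filter, Finset.mem_univ, true_and, inv_inv] at hx ⊢
      exact ⟨hx.2, by rw [mul_inv_cancel_left]; exact hx.1⟩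
    · intro x _; simp
    · intro x _; simp
  have hFconj : ∀ z c : G, F (c * z * c⁻¹) = F z := by
    intro z c
    have hiff : ∀ y : G, IsConj g (c * y * c⁻¹) ↔ IsConj g y := fun y =>
      ⟨fun h => h.trans (isConj_iff.mpr ⟨c, rfl⟩).symm, fun h => h.trans (isConj_iff.mpr ⟨c, rfl⟩)⟩
    refine Finset.card_bij' (fun x _ => c⁻¹ * x * c) (fun x _ => c * x * c⁻¹) ?_ ?_ ?_ ?_
    · intro x hx
      simp only [Finset.mem_filter, Finset.mem_univ, true_and] at hx ⊢
      rw [← hiff, ← hiff (z⁻¹ * _)]
      refine ⟨by simpa [mul_assoc] using hx.1, ?_⟩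
      convert hx.2 using 1
      group
    · intro x hx
      simp only [Finset.mem_filter, Finset.mem_univ, true_and] at hx ⊢
      refine ⟨(hiff _).mpr hx.1, ?_⟩
      have : (c * z * c⁻¹)⁻¹ * (c * x * c⁻¹) = c * (z⁻¹ * x) * c⁻¹ := by group
      rw [this]
      exact (hiff _).mpr hx.2
    · intro x _; group
    · intro x _; group
  have hclass : ∀ ψ : IrrCharacter G, centralChar (ψ : G → ℂ) g * centralChar (ψ : G → ℂ) g⁻¹ =
      ∑ C : ConjClasses G, (F (classRep C) : ℂ) * centralChar (ψ : G → ℂ) (classRep C) := by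
    intro ψ
    rw [centralChar_mul_inv, ← Finset.sum_fiberwise Finset.univ ConjClasses.mk]
    refine Finset.sum_congr rfl fun C _ => ?_
    have hmem : ∀ z : G, ConjClasses.mk z = C ↔ IsConj (classRep C) z := fun z => by
      rw [isConj_classRep_iff, eq_comm]
    rw [Finset.sum_congr rfl (g := fun _ => (F (classRep C) : ℂ) *
      ((ψ : G → ℂ) (classRep C) / (ψ : G → ℂ) 1)) fun z hz => ?_]
    · rw [Finset.sum_const, nsmul_eq_mul, centralChar, ← natCard_isConj, Nat.card_eq_fintype_card,
        Fintype.card_subtype]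
      simp only [hmem]
      ring
    · obtain ⟨c, hc⟩ := isConj_iff.mp ((hmem z).mp (Finset.mem_filter.mp hz).2)
      show (F z : ℂ) * _ = _
      rw [← hc, hFconj, Chars.irr_isClassFunction ψ]
  have key : w g * w g = u g * u g := by
    have h1 : w g * w g⁻¹ = ∑ C : ConjClasses G, (F (classRep C) : R) * w (classRep C) := by
      show residue M _ * residue M _ = ∑ C, (F (classRep C) : R) * residue M _
      simp only [← hcast, ← map_mul, ← map_sum]
      congr 1
      ext
      push_cast
      exact hclass χ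
    have h2 : u g * u g⁻¹ = ∑ C : ConjClasses G, (F (classRep C) : R) * u (classRep C) := by
      have := hclass (Chars.trivialIrr G)
      simp only [Chars.trivialIrr, centralChar_trivial] at this
      show ((_ : ℕ) : R) * ((_ : ℕ) : R) = ∑ C, (F (classRep C) : R) * ((_ : ℕ) : R)
      have h3 : (Subgroup.centralizer ({g} : Set G)).index *
          (Subgroup.centralizer ({g⁻¹} : Set G)).index =
          ∑ C : ConjClasses G, F (classRep C) *
            (Subgroup.centralizer ({classRep C} : Set G)).index := by exact_mod_cast this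
      rw [← Nat.cast_mul, h3, Nat.cast_sum]
      exact Finset.sum_congr rfl fun C _ => Nat.cast_mul _ _
    have huinv : ∀ z, u z⁻¹ = u z := fun z => by simp only [u, centralizer_inv_eq]
    rw [hwinv] at h1
    rw [huinv] at h2
    rw [h1, h2, ← sub_eq_zero, ← Finset.sum_sub_distrib]
    have hwc : ∀ {a b : G}, IsConj a b → w b = w a := fun {a b} hab => by
      show residue M _ = residue M _
      congr 1
      exact Subtype.ext (centralChar_eq_of_isConj χ hab)
    have huc : ∀ {a b : G}, IsConj a b → u b = u a := fun {a b} hab => by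
      show ((_ : ℕ) : R) = ((_ : ℕ) : R)
      rw [index_centralizer_eq_of_isConj hab]
    refine Finset.sum_involution (fun C _ => ConjClasses.mk (classRep C)⁻¹) (fun C _ => ?_)
      (fun C _ hC heq => hC ?_) (fun C _ => Finset.mem_univ _) (fun C _ => ?_)
    · have hF : F (classRep (ConjClasses.mk (classRep C)⁻¹)) = F (classRep C) := by
        obtain ⟨c, hc⟩ := isConj_iff.mp (isConj_classRep_mk (classRep C)⁻¹)
        exact ((hFconj _ c).symm.trans (congrArg F hc)).trans (hFinv _)
      rw [hF, hwc (isConj_classRep_mk (classRep C)⁻¹).symm, huc (isConj_classRep_mk (classRep C)⁻¹).symm,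
        hwinv, huinv, CharTwo.add_self_eq_zero]
    · have hfixC : IsConj (classRep C) (classRep C)⁻¹ := by
        rw [isConj_classRep_iff]; exact heq.symm
      rw [hwfix _ hfixC, sub_self]
    · show ConjClasses.mk (classRep (ConjClasses.mk (classRep C)⁻¹))⁻¹ = C
      obtain ⟨c, hc⟩ := isConj_iff.mp (isConj_classRep_mk (classRep C)⁻¹)
      have : classRep (ConjClasses.mk (classRep C)⁻¹) = c⁻¹ * (classRep C)⁻¹ * c := by
        calc _ = c⁻¹ * (c * classRep (ConjClasses.mk (classRep C)⁻¹) * c⁻¹) * c := by group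
          _ = _ := by rw [hc]
      rw [this]
      conv_rhs => rw [← mk_classRep C]
      exact ConjClasses.mk_eq_mk_iff_isConj.mpr (isConj_iff.mpr ⟨c, by group⟩)
  have hwu : w g = u g := by
    rcases mul_self_eq_mul_self_iff.mp key with h | h
    · exact h
    · rw [h, CharTwo.neg_eq]
  rw [show u g = residue M ((Subgroup.centralizer ({g} : Set G)).index : localRing M) from
    (hcast _).symm] at hwu
  have := residue_eq_iff.mp hwu.symm
  simpa using this

/-- The hypothesis at classes fixed by inversion, for a character of odd degree. -/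
theorem fix_of_odd_degree {M : Ideal AlgInt} (hM : IsPModular 2 M) (χ : IrrCharacter G)
    (hodd : Odd (charDegree (χ : G → ℂ))) (z : G) (hz : IsConj z z⁻¹) :
    MemLocalIdeal M (centralChar (χ : G → ℂ) z - ((Subgroup.centralizer ({z} : Set G)).index : ℂ)) := by
  classical
  have : M.IsPrime := isPModular_isPrime hM
  cases nonempty_fintype G
  set d := charDegree (χ : G → ℂ)
  have hd : (d : ℂ) = (χ : G → ℂ) 1 := charDegree_isCharacter (Chars.irr_isCharacter χ)
  have hinvd : MemLocalRing M ((d : ℂ)⁻¹) :=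
    mem_localRing.mp (inv_natCast_mem_localRing hM hodd.not_two_dvd_nat)
  have e : centralChar (χ : G → ℂ) z - ((Subgroup.centralizer ({z} : Set G)).index : ℂ) =
      ((Subgroup.centralizer ({z} : Set G)).index : ℂ) *
        (((χ : G → ℂ) z - (χ : G → ℂ) 1) * (d : ℂ)⁻¹) := by
    have : (χ : G → ℂ) 1 ≠ 0 := Chars.irr_apply_one_ne_zero χ
    rw [centralChar, hd]; field_simp
  rw [e]
  by_cases heven : 2 ∣ (Subgroup.centralizer ({z} : Set G)).index
  · refine memLocalIdeal_mul_right ((memLocalIdeal_natCast_iff hM _).mpr heven) ?_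
    exact mem_localRing.mp (mul_mem (sub_mem
      (isIntegral_mem_localRing (Chars.irr_isIntegral χ z))
      (isIntegral_mem_localRing (Chars.irr_isIntegral χ 1))) (mem_localRing.mpr hinvd))
  · refine memLocalIdeal_mul_left (mem_localRing.mp (natCast_mem_localRing _))
      (memLocalIdeal_mul_right ?_ hinvd)
    -- a class of odd size fixed by inversion contains an element equal to its inverse
    obtain ⟨y, hy, hy2⟩ : ∃ y, IsConj z y ∧ y⁻¹ = y := by
      by_contra hcon
      push Not at hcon
      apply heven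
      rw [← natCard_isConj, Nat.card_eq_fintype_card, Fintype.card_subtype,
        ← ZMod.natCast_eq_zero_iff, Finset.card_eq_sum_ones, Nat.cast_sum, Nat.cast_one]
      have hmem : ∀ y, IsConj z y → IsConj z y⁻¹ := fun y hy => hz.trans (by
        obtain ⟨c, rfl⟩ := isConj_iff.mp hy
        exact isConj_iff.mpr ⟨c, by group⟩)
      exact Finset.sum_involution (fun y _ => y⁻¹) (fun y _ => CharTwo.add_self_eq_zero _)
        (fun y hy _ h => hcon y (Finset.mem_filter.mp hy).2 h)
        (fun y hy => Finset.mem_filter.mpr ⟨Finset.mem_univ _, hmem y (Finset.mem_filter.mp hy).2⟩)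
        (fun y _ => inv_inv y)
    have hzpow : z ^ 2 ^ 1 = 1 := by
      obtain ⟨c, hc⟩ := isConj_iff.mp hy
      have : y ^ 2 = 1 := by rw [pow_two, inv_eq_iff_mul_eq_one.mp hy2]
      rw [← hc, conj_pow] at this
      rw [pow_one]
      calc z ^ 2 = c⁻¹ * (c * z ^ 2 * c⁻¹) * c := by group
        _ = 1 := by rw [this]; group
    exact char_congr_one hM (Chars.irr_isCharacter χ) hzpow

end Cfsg.Agent.Lib.BlockCongr
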