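import Mathlib
import Cfsg.Agent.Lib.Blocks.DefectClass
import Cfsg.Agent.Lib.BrauerFeit.DefectGroup

/-!
# Central characters and classes of a given defect

The reduced central character of a block of defect d is determined by the p-regular classes whose
centralizer has p-part p ^ d.
-/

set_option autoImplicit false

namespace Cfsg.Agent.Lib.BlockCongr

open Cfsg
open Cfsg.Agent.Lib
open Cfsg.Agent.Lib.Blocks

universe u

variable {G : Type u} [Group G] [Finite G] {p : ℕ} [Fact p.Prime] {M : Ideal AlgInt}

/-- A unit coefficient of the block idempotent sits on a p-regular class of defect at most d. -/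
theorem defect_le_of_unit_coeff (hM : IsPModular p M) {B : Set (IrrCharacter G)}
    (hB : IsPBlock M B) {h : G} (hunit : ¬ MemLocalIdeal M (blockCoeff B h)) :
    ¬ p ∣ orderOf h ∧
      (Nat.card (Subgroup.centralizer ({h} : Set G))).factorization p ≤ blockDefect p B := by
  classical
  cases nonempty_fintype G
  have : M.IsPrime := isPModular_isPrime hM
  refine ⟨fun hd => hunit (by rw [blockCoeff_eq_zero_of_pSingular hM hB hd]; exact memLocalIdeal_zero),
    ?_⟩
  obtain ⟨Q, hQ⟩ := exists_isClassDefect (p := p) h
  obtain ⟨D, hD, hle⟩ := exists_isDefectGroup_ge hM hB hQ.1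
    (le_centralizer_singleton_iff.1 hQ.2.1) hunit
  have h1 := Subgroup.card_le_of_le hle
  rw [hQ.2.2, BrauerFeit.card_defectGroup hM hB hD] at h1
  exact (Nat.pow_le_pow_iff_right (Nat.Prime.one_lt Fact.out)).1 h1

/-- A class with unit central character has defect at least d. -/
theorem le_defect_of_unit_centralChar (hM : IsPModular p M) {B : Set (IrrCharacter G)}
    (hB : IsPBlock M B) {χ : IrrCharacter G} (hχ : χ ∈ B) {h : G}
    (hω : ¬ MemLocalIdeal M (centralChar (χ : G → ℂ) h)) :
    blockDefect p B ≤ (Nat.card (Subgroup.centralizer ({h} : Set G))).factorization p := by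
  classical
  cases nonempty_fintype G
  have : M.IsPrime := isPModular_isPrime hM
  obtain ⟨g, hg⟩ := isDefectClass_exists hB
  obtain ⟨D, hD⟩ := exists_isClassDefect (p := p) g
  obtain ⟨Q, hQ⟩ := exists_isClassDefect (p := p) h
  obtain ⟨x, hx⟩ := exists_conj_le_classDefect hM hB hg hD hχ hω hQ
  have h1 := Subgroup.card_le_of_le hx
  rw [Subgroup.card_map_of_injective (MulAut.conj x).injective, hQ.2.2,
    BrauerFeit.card_defectGroup hM hB (isDefectGroup_iff.2 ⟨g, hg, hD⟩)] at h1
  exact (Nat.pow_le_pow_iff_right (Nat.Prime.one_lt Fact.out)).1 h1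

open Classical in
/-- The classes of p-regular elements of defect d. -/
noncomputable def defectClasses (p d : ℕ) (G : Type u) [Group G] [Fintype (ConjClasses G)] :
    Finset (ConjClasses G) :=
  Finset.univ.filter fun c => ¬ p ∣ orderOf (classRep c) ∧
    (Nat.card (Subgroup.centralizer ({classRep c} : Set G))).factorization p = d

/-- The value of a reduced central character of defect d on a block idempotent of defect d only
involves the classes of defect d. -/
theorem indicator_eq_sum_defectClasses [Fintype (ConjClasses G)] (hM : IsPModular p M)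
    [M.IsPrime] {B : Set (IrrCharacter G)} (hB : IsPBlock M B) {d : ℕ}
    (hd : blockDefect p B = d) (ψ : IrrCharacter G)
    (hψ : blockDefect p (blockOf M (ψ : G → ℂ)) = d) [Decidable (ψ ∈ B)] :
    (if ψ ∈ B then (1 : Residue M) else 0) = ∑ c ∈ defectClasses p d G,
      residue M ((blockIdem M hB : MonoidAlgebra (localRing M) G).coeff (classRep c)) *
        omegaBar M ψ (classSumR M (classRep c)) := by
  classical
  have h := omegaBar_blockIdem hB ψ
  rw [omegaBar_eq_sum ψ (blockIdem M hB)] at h
  refine Eq.trans ?_ ((Finset.sum_subset (Finset.subset_univ _) fun c _ hc => ?_).symm)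
  · rw [h]
    split_ifs <;> rfl
  · by_contra hne
    obtain ⟨h1, h2⟩ := mul_ne_zero_iff.1 hne
    have hu : ¬ MemLocalIdeal M (blockCoeff B (classRep c)) := fun hm =>
      h1 (by rw [residue_eq_zero_iff, coe_coeff_blockIdem]; exact hm)
    obtain ⟨hreg, hle⟩ := defect_le_of_unit_coeff hM hB hu
    have hge := le_defect_of_unit_centralChar hM (isPBlock_blockOf ψ) (mem_blockOf_self ψ)
      (fun hm => h2 ((omegaBar_classSumR_eq_zero_iff ψ _).2 hm))
    refine hc ?_
    simp only [defectClasses, Finset.mem_filter, Finset.mem_univ, true_and]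
    exact ⟨hreg, by omega⟩

end Cfsg.Agent.Lib.BlockCongr
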