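import Cfsg.Agent.Lib.BlockCongr.Basic
import Cfsg.Agent.Lib.Blocks.BlockOrth

/-!
# A block with a Sylow subgroup as defect group has a member of degree prime to `p`
-/

set_option autoImplicit false

namespace Cfsg.Agent.Lib.BlockCongr

open Cfsg Cfsg.Agent.Lib Cfsg.Agent.Lib.Blocks
open scoped ComplexConjugate

universe u

variable {G : Type u} [Group G] [Finite G]

/-- The average of `χ (g * u)` over a subgroup commuting with `g` is an algebraic integer. -/
theorem isIntegral_average {χ : G → ℂ} (hχ : IsCharacter G χ) (P : Subgroup G) [Fintype P] (g : G)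
    (hg : ∀ u ∈ P, g * u = u * g) :
    IsIntegral ℤ ((Nat.card P : ℂ)⁻¹ * ∑ u : P, χ (g * u)) := by
  obtain ⟨d, ρ, rfl⟩ := hχ
  let σ : Representation ℂ P (Fin d → ℂ) := ρ.comp P.subtype
  have : Invertible (Fintype.card P : ℂ) := invertibleOfNonzero (by exact_mod_cast Fintype.card_ne_zero)
  set W := σ.invariants
  let π : (Fin d → ℂ) →ₗ[ℂ] W := σ.averageMap.codRestrict W (σ.averageMap_invariant)
  have hcommg : ∀ a : Subgroup.zpowers g, ∀ v ∈ W, ρ (a : G) v ∈ W := by
    intro a v hv u
    obtain ⟨i, hi⟩ := a.2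
    have hi' : g ^ i = (a : G) := hi
    have h : (u : G) * a = a * u := by
      rw [← hi']
      exact ((show Commute g (u : G) from hg u u.2).symm.zpow_right i).eq
    show ρ (u : G) (ρ (a : G) v) = ρ (a : G) v
    rw [← Module.End.mul_apply, ← map_mul, h, map_mul, Module.End.mul_apply]
    exact congrArg (ρ (a : G)) (hv u)
  let ρW : Representation ℂ (Subgroup.zpowers g) W :=
    { toFun := fun a => (ρ (a : G)).restrict (fun v hv => hcommg a v hv)
      map_one' := by ext v : 2; simp
      map_mul' := fun a b => by ext v : 2; simp }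
  have hkey : (Nat.card P : ℂ)⁻¹ * ∑ u : P, ρ.character (g * u) =
      ρW.character ⟨g, Subgroup.mem_zpowers g⟩ := by
    have h2 : LinearMap.trace ℂ (Fin d → ℂ) (ρ g ∘ₗ σ.averageMap) =
        ρW.character ⟨g, Subgroup.mem_zpowers g⟩ := by
      have e : ρ g ∘ₗ σ.averageMap = (ρ g ∘ₗ W.subtype) ∘ₗ π := LinearMap.ext fun v => rfl
      rw [e, LinearMap.trace_comp_comm']
      show LinearMap.trace ℂ W _ = LinearMap.trace ℂ W _
      congr 1
      refine LinearMap.ext fun v => Subtype.ext ?_
      show σ.averageMap (ρ g (v : Fin d → ℂ)) = ρ g (v : Fin d → ℂ)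
      exact σ.averageMap_id _ (hcommg ⟨g, Subgroup.mem_zpowers g⟩ v v.2)
    rw [← h2]
    have e2 : σ.averageMap = (Nat.card P : ℂ)⁻¹ • ∑ u : P, σ u := by
      rw [Representation.averageMap, GroupAlgebra.average, map_smul, map_sum]
      simp [invOf_eq_inv, Nat.card_eq_fintype_card]
    rw [e2, LinearMap.comp_smul, map_smul, smul_eq_mul,
      show ρ g ∘ₗ (∑ u : P, σ u) = ρ g * ∑ u : P, σ u from rfl, Finset.mul_sum Finset.univ (fun u : P => σ u) (ρ g), map_sum]
    congr 1
    refine Finset.sum_congr rfl fun u _ => ?_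
    show ρ.character (g * u) = LinearMap.trace ℂ _ (ρ g * ρ (u : G))
    rw [← map_mul]
    rfl
  rw [hkey]
  exact Chars.char_isIntegral ρW _

/-- A block having a Sylow subgroup among its defect groups has a member of degree prime to `p`. -/
theorem exists_degree_not_dvd {p : ℕ} [Fact p.Prime] {M : Ideal AlgInt} (hM : IsPModular p M)
    {B : Set (IrrCharacter G)} (hB : IsPBlock M B) (P : Sylow p G)
    (hfull : IsDefectGroup p M B (P : Subgroup G)) :
    ∃ χ ∈ B, ¬ p ∣ charDegree (χ : G → ℂ) := by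
  classical
  have : M.IsPrime := isPModular_isPrime hM
  cases nonempty_fintype G
  obtain ⟨g, ⟨-, hcoeff, -⟩, Q, hQ⟩ := hfull
  by_contra hcon
  push Not at hcon
  apply hcoeff
  have hcomm : ∀ u ∈ (P : Subgroup G), g * u = u * g := by
    intro u hu
    rw [hQ] at hu
    obtain ⟨c, -, rfl⟩ := hu
    exact (Subgroup.mem_centralizer_singleton_iff.mp c.2).symm
  have hgreg : ¬ p ∣ orderOf g := fun h => hcoeff
    (by rw [blockCoeff_eq_zero_of_pSingular hM hB h]; exact memLocalIdeal_zero)
  have hsum : blockCoeff B g = ∑ u : (P : Subgroup G), blockCoeff B (g * u) := by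
    rw [Finset.sum_eq_single (1 : (P : Subgroup G)) (fun u _ hu => ?_) (by simp)]
    · simp
    · obtain ⟨k, hk⟩ := IsPGroup.iff_orderOf.1 P.isPGroup' u
      have hk0 : k ≠ 0 := by
        rintro rfl
        rw [pow_zero, orderOf_eq_one_iff] at hk
        exact hu hk
      refine blockCoeff_eq_zero_of_pSingular hM hB ?_
      have hco : Nat.Coprime (orderOf g) (orderOf (u : G)) := by
        rw [Subgroup.orderOf_coe, hk]
        exact (Nat.Coprime.symm ((hM.1.coprime_iff_not_dvd).mpr hgreg)).pow_right k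
      rw [(show Commute g (u : G) from hcomm u u.2).orderOf_mul_eq_mul_orderOf_of_coprime hco,
        Subgroup.orderOf_coe, hk]
      exact dvd_mul_of_dvd_right (dvd_pow_self p hk0) _
  have hdeg : ∀ χ ∈ B.toFinset, MemLocalIdeal M (((χ : IrrCharacter G) : G → ℂ) 1) := by
    intro χ hχ
    rw [← charDegree_isCharacter (Chars.irr_isCharacter χ), memLocalIdeal_natCast_iff hM]
    exact hcon χ (Set.mem_toFinset.mp hχ)
  have hkey : blockCoeff B g = ((Nat.card (P : Subgroup G) : ℂ) / Nat.card G) *
      ∑ χ ∈ B.toFinset, (χ : G → ℂ) 1 *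
        conj ((Nat.card (P : Subgroup G) : ℂ)⁻¹ * ∑ u : (P : Subgroup G), (χ : G → ℂ) (g * u)) := by
    rw [hsum]
    simp only [blockCoeff, finsum_mem_eq_toFinset_sum]
    have hP0 : (Nat.card (P : Subgroup G) : ℂ) ≠ 0 := Nat.cast_ne_zero.mpr Nat.card_pos.ne'
    rw [← Finset.mul_sum, Finset.sum_comm]
    simp only [map_mul, map_inv₀, map_natCast, map_sum, Finset.mul_sum]
    refine Finset.sum_congr rfl fun χ _ => Finset.sum_congr rfl fun u _ => ?_
    field_simp
  rw [hkey]
  refine memLocalIdeal_mul_left (mem_localRing.mp ?_) (memLocalIdeal_sum _ _ fun χ hχ => ?_)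
  · refine natCast_div_mem_localRing hM Nat.card_pos.ne' (Or.inl ?_)
    rw [P.card_eq_multiplicity, hM.1.factorization_pow, Finsupp.single_eq_same]
  · exact memLocalIdeal_mul_right (hdeg χ hχ) (mem_localRing.mp (isIntegral_mem_localRing
      (Chars.isIntegral_conj (isIntegral_average (Chars.irr_isCharacter χ) _ g hcomm))))

end Cfsg.Agent.Lib.BlockCongr
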