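import Cfsg.Agent.Lib.BlockCongr.Basic
import Cfsg.Agent.Lib.Blocks.LocalRing

/-!
# Central characters modulo `M` and a normal `p`-subgroup
-/

set_option autoImplicit false

namespace Cfsg.Agent.Lib.BlockCongr

open Cfsg Cfsg.Agent.Lib Cfsg.Agent.Lib.Blocks

universe u

variable {G : Type u} [Group G] [Fintype G]

open Classical in
/-- The reduced central character is an eigenvalue of convolution by the class. -/
theorem exists_eigen_vector {M : Ideal AlgInt} [M.IsPrime] (χ : IrrCharacter G) (g : G) :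
    ∃ f : G → Residue M, f ≠ 0 ∧ ∀ x : G,
      (∑ c ∈ Finset.univ.filter (IsConj g), f (c⁻¹ * x)) =
        residue M ⟨centralChar (χ : G → ℂ) g, memLocalRing_centralChar M χ g⟩ * f x := by
  set a : localRing M := ⟨centralChar (χ : G → ℂ) g, memLocalRing_centralChar M χ g⟩
  let A : Matrix G G (localRing M) := Matrix.of fun x y => if IsConj g (x * y⁻¹) then 1 else 0
  let v : G → ℂ := fun y => (χ : G → ℂ) y⁻¹
  have hconv : ∀ x, (∑ y, (if IsConj g (x * y⁻¹) then (1 : ℂ) else 0) * v y) = (a : ℂ) * v x := by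
    intro x
    have h := omega_mul χ (classSum_mem_center g) (MonoidAlgebra.single x⁻¹ 1)
    rw [omega_single, one_mul, omega_classSum (Chars.irr_isClassFunction χ), omega_eq_sum] at h
    simp only [MonoidAlgebra.coeff_mul_single_apply, inv_inv, mul_one, coeff_classSum] at h
    have hne := Chars.irr_apply_one_ne_zero χ
    have h2 := congrArg (· * (χ : G → ℂ) 1) h
    simp only [Finset.sum_mul] at h2
    have h3 : centralChar (χ : G → ℂ) g * ((χ : G → ℂ) x⁻¹ / (χ : G → ℂ) 1) * (χ : G → ℂ) 1 =
        (a : ℂ) * v x := by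
      show _ = centralChar (χ : G → ℂ) g * (χ : G → ℂ) x⁻¹
      field_simp
    rw [← h3, ← h2]
    refine Fintype.sum_equiv (Equiv.inv G) _ _ fun y => ?_
    simp only [v, Equiv.inv_apply]
    have hiff : IsConj g (x * y⁻¹) ↔ IsConj g (y⁻¹ * x) := by
      have : IsConj (x * y⁻¹) (y⁻¹ * x) := isConj_iff.mpr ⟨y⁻¹, by group⟩
      exact ⟨fun h => h.trans this, fun h => h.trans this.symm⟩
    rw [mul_assoc, div_mul_cancel₀ _ hne]
    exact congrArg (· * (χ : G → ℂ) y⁻¹) (if_congr hiff rfl rfl)
  have hv : v ≠ 0 := fun h => Chars.irr_apply_one_ne_zero χ (by simpa [v] using congrFun h 1)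
  have hdet : (A - Matrix.diagonal fun _ => a).det = 0 := by
    apply Subtype.coe_injective
    show (localRing M).subtype (A - Matrix.diagonal fun _ => a).det = (localRing M).subtype 0
    rw [RingHom.map_det, map_zero, ← Matrix.exists_mulVec_eq_zero_iff]
    refine ⟨v, hv, funext fun x => ?_⟩
    simp only [RingHom.mapMatrix_apply, Matrix.mulVec, dotProduct, Matrix.map_apply,
      Matrix.sub_apply, map_sub, sub_mul, Finset.sum_sub_distrib, Pi.zero_apply]
    rw [sub_eq_zero]
    convert hconv x using 1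
    · refine Finset.sum_congr rfl fun y _ => ?_
      simp only [A, Matrix.of_apply, apply_ite (localRing M).subtype, map_one, map_zero]
    · simp [Matrix.diagonal_apply, apply_ite (localRing M).subtype]
  have hdet2 := congrArg (residue M) hdet
  rw [RingHom.map_det, map_zero, ← Matrix.exists_mulVec_eq_zero_iff] at hdet2
  obtain ⟨f, hf, hf0⟩ := hdet2
  refine ⟨f, hf, fun x => ?_⟩
  have h := congrFun hf0 x
  simp only [RingHom.mapMatrix_apply, Matrix.mulVec, dotProduct, Matrix.map_apply,
    Matrix.sub_apply, map_sub, sub_mul, Finset.sum_sub_distrib, Pi.zero_apply, sub_eq_zero] at h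
  have h1 : (∑ c ∈ Finset.univ.filter (IsConj g), f (c⁻¹ * x)) =
      ∑ y, residue M (A x y) * f y := by
    rw [Finset.sum_filter]
    refine Fintype.sum_equiv ((Equiv.inv G).trans (Equiv.mulRight x)) _ _ fun c => ?_
    simp [A, apply_ite (residue M)]
  rw [h1, h]
  simp [Matrix.diagonal_apply, apply_ite (residue M)]

variable {p : ℕ}

/-- A finite `p`-group acting on functions in characteristic `p` fixes a nonzero one. -/
theorem exists_invariant {k : Type*} [Field k] [CharP k p] [Fact p.Prime] (Q : Subgroup G)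
    (hQ : IsPGroup p Q) (E : Submodule k (G → k))
    (hE : ∀ (q : Q), ∀ f ∈ E, (fun x => f ((q : G)⁻¹ * x)) ∈ E) {f₀ : G → k} (hf₀ : f₀ ∈ E)
    (hne : f₀ ≠ 0) :
    ∃ f ∈ E, f ≠ 0 ∧ ∀ (q : Q) (x : G), f ((q : G) * x) = f x := by
  classical
  let φ : (Q → ZMod p) →+ (G → k) :=
    { toFun := fun c x => ∑ q : Q, ZMod.castHom (dvd_refl p) k (c q) * f₀ ((q : G)⁻¹ * x)
      map_zero' := by ext x; simp
      map_add' := fun c d => by
        ext x
        simp [ZMod.cast_add (dvd_refl p), add_mul, Finset.sum_add_distrib] }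
  set W := φ.range
  have hWE : ∀ w ∈ W, w ∈ E := by
    rintro _ ⟨c, rfl⟩
    have : φ c = ∑ q : Q, ZMod.castHom (dvd_refl p) k (c q) • fun x => f₀ ((q : G)⁻¹ * x) := by
      funext x; simp [φ, Finset.sum_apply]
    rw [this]
    exact E.sum_mem fun q _ => E.smul_mem _ (hE q _ hf₀)
  have hf₀W : f₀ ∈ W := ⟨Pi.single 1 1, by
    funext x
    show ∑ q : Q, ZMod.castHom (dvd_refl p) k ((Pi.single 1 1 : Q → ZMod p) q) * _ = _
    rw [Finset.sum_eq_single (1 : Q) (fun q _ hq => by simp [hq]) (by simp)]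
    simp⟩
  let act : MulAction Q W :=
    { smul := fun q w => ⟨fun x => w.1 ((q : G)⁻¹ * x), by
        obtain ⟨c, hc⟩ := w.2
        refine ⟨fun r => c (q⁻¹ * r), ?_⟩
        funext x
        rw [← hc]
        show ∑ r : Q, _ = ∑ r : Q, _
        refine Fintype.sum_equiv (Equiv.mulLeft q⁻¹) _ _ fun r => ?_
        simp [mul_assoc]⟩
      one_smul := fun w => Subtype.ext (funext fun x => by
        show w.1 (((1 : Q) : G)⁻¹ * x) = w.1 x
        simp)
      mul_smul := fun q r w => Subtype.ext (funext fun x => by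
        show w.1 (((q * r : Q) : G)⁻¹ * x) = w.1 ((r : G)⁻¹ * ((q : G)⁻¹ * x))
        simp [mul_assoc]) }
  have : Finite W := Finite.of_surjective φ.rangeRestrict φ.rangeRestrict_surjective
  have hdvd : p ∣ Nat.card W := by
    have hord : addOrderOf (⟨f₀, hf₀W⟩ : W) = p := by
      refine addOrderOf_eq_prime ?_ fun h => hne (congrArg Subtype.val h)
      apply Subtype.ext
      show p • f₀ = 0
      funext x
      simp [nsmul_eq_mul, CharP.cast_eq_zero]
    have := addOrderOf_dvd_natCard (⟨f₀, hf₀W⟩ : W)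
    rwa [hord] at this
  have hzero : (0 : W) ∈ MulAction.fixedPoints Q W := fun q => Subtype.ext (funext fun x => rfl)
  obtain ⟨w, hw, hw0⟩ := hQ.exists_fixed_point_of_prime_dvd_card_of_fixed_point W hdvd hzero
  refine ⟨w.1, hWE _ w.2, fun h => hw0 (Subtype.ext h.symm), fun q x => ?_⟩
  have h := congrFun (congrArg Subtype.val (hw q⁻¹)) x
  have h' : w.1 (((q⁻¹ : Q) : G)⁻¹ * x) = w.1 x := h
  simpa using h'

open Classical in
/-- For a normal `p`-subgroup `Q`: on `Q` every central character is the class length modulo `M`,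
off the centraliser of `Q` both vanish modulo `M`. -/
theorem centralChar_congr_index {M : Ideal AlgInt} (hM : IsPModular p M) (Q : Subgroup G)
    [hQn : Q.Normal] (hQ : IsPGroup p Q) (χ : IrrCharacter G) (g : G)
    (hg : g ∈ Q ∨ g ∉ Subgroup.centralizer (Q : Set G)) :
    MemLocalIdeal M (centralChar (χ : G → ℂ) g - ((Subgroup.centralizer ({g} : Set G)).index : ℂ)) := by
  have : M.IsPrime := isPModular_isPrime hM
  have := Fact.mk hM.1
  let k := Residue M
  have : CharP k p := charP_residue hM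
  set a : localRing M := ⟨centralChar (χ : G → ℂ) g, memLocalRing_centralChar M χ g⟩
  obtain ⟨f₀, hf₀, hf₀e⟩ := exists_eigen_vector (M := M) χ g
  set K := Finset.univ.filter (IsConj g) with hK
  have hmemK : ∀ c, c ∈ K ↔ IsConj g c := fun c => by simp [K]
  have hKconj : ∀ (y c : G), c ∈ K → y * c * y⁻¹ ∈ K := fun y c hc =>
    (hmemK _).mpr (((hmemK c).mp hc).trans (isConj_iff.mpr ⟨y, rfl⟩))
  let E : Submodule k (G → k) :=
    { carrier := {f | ∀ x, (∑ c ∈ K, f (c⁻¹ * x)) = residue M a * f x}
      add_mem' := fun {f f'} hf hf' x => by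
        simp only [Pi.add_apply, Finset.sum_add_distrib, mul_add, hf x, hf' x]
      zero_mem' := fun x => by simp
      smul_mem' := fun r f hf x => by
        simp only [Pi.smul_apply, smul_eq_mul, ← Finset.mul_sum, hf x]
        ring }
  have hE : ∀ (q : Q), ∀ f ∈ E, (fun x => f ((q : G)⁻¹ * x)) ∈ E := by
    intro q f hf x
    rw [← hf]
    refine Finset.sum_nbij' (fun c => (q : G)⁻¹ * c * q) (fun c => (q : G) * c * (q : G)⁻¹)
      (fun c hc => by simpa using hKconj (q : G)⁻¹ c hc) (fun c hc => hKconj q c hc)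
      (fun c _ => by group) (fun c _ => by group) (fun c _ => ?_)
    congr 1
    group
  obtain ⟨f, hfE, hf0, hfQ⟩ := exists_invariant Q hQ E hE (f₀ := f₀) hf₀e hf₀
  obtain ⟨x, hx⟩ := Function.ne_iff.mp hf0
  have hx' : f x ≠ 0 := hx
  have hidx : (Subgroup.centralizer ({g} : Set G)).index = K.card := by
    rw [← natCard_isConj, Nat.card_eq_fintype_card, Fintype.card_subtype]
  have hres : residue M a = ((Subgroup.centralizer ({g} : Set G)).index : k) := by
    apply mul_right_cancel₀ hx'
    rw [← hfE x, hidx]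
    rcases hg with hgQ | hgC
    · rw [Finset.sum_congr rfl (g := fun _ => f x) fun c hc => ?_, Finset.sum_const, nsmul_eq_mul]
      obtain ⟨y, hy⟩ := isConj_iff.mp ((hmemK c).mp hc)
      exact hfQ ⟨c⁻¹, Q.inv_mem (hy ▸ hQn.conj_mem g hgQ y)⟩ x
    · -- every fibre of `c ↦ f (c⁻¹ * x)` on the class is a union of nontrivial orbits
      have hfib : ∀ s : Finset G, s ⊆ K →
          (∀ (q : Q), ∀ c ∈ s, (q : G) * c * (q : G)⁻¹ ∈ s) → (s.card : k) = 0 := by
        intro s hs hstab
        rw [CharP.cast_eq_zero_iff k p]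
        let act : MulAction Q s :=
          { smul := fun q c => ⟨(q : G) * c * (q : G)⁻¹, hstab q c c.2⟩
            one_smul := fun c => Subtype.ext (show ((1 : Q) : G) * c * ((1 : Q) : G)⁻¹ = c by simp)
            mul_smul := fun q r c => Subtype.ext (show ((q * r : Q) : G) * c * ((q * r : Q) : G)⁻¹ =
              (q : G) * ((r : G) * c * (r : G)⁻¹) * (q : G)⁻¹ by push_cast; group) }
        have hfp : IsEmpty (MulAction.fixedPoints Q s) := by
          refine ⟨fun c => hgC ?_⟩
          obtain ⟨y, hy⟩ := isConj_iff.mp ((hmemK _).mp (hs c.1.2))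
          intro q hq
          have hq' : y * q * y⁻¹ ∈ Q := hQn.conj_mem q hq y
          have h := congrArg Subtype.val (c.2 ⟨_, hq'⟩)
          have h' : y * q * y⁻¹ * (c.1 : G) * (y * q * y⁻¹)⁻¹ = c.1 := h
          rw [← hy] at h'
          calc q * g = y⁻¹ * (y * q * y⁻¹ * (y * g * y⁻¹) * (y * q * y⁻¹)⁻¹) * y * q := by group
            _ = g * q := by rw [h']; group
        have h := hQ.card_modEq_card_fixedPoints s
        rw [Nat.card_of_isEmpty (α := MulAction.fixedPoints Q s), Nat.card_eq_fintype_card, Fintype.card_coe] at h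
        exact Nat.modEq_zero_iff_dvd.mp h
      rw [hfib K (le_refl _) (fun q c hc => hKconj q c hc), zero_mul,
        ← Finset.sum_fiberwise_of_maps_to (g := fun c => f (c⁻¹ * x))
          (t := K.image fun c => f (c⁻¹ * x)) (fun c hc => Finset.mem_image_of_mem _ hc)]
      refine Finset.sum_eq_zero fun v _ => ?_
      rw [Finset.sum_congr rfl (fun c hc => (Finset.mem_filter.mp hc).2), Finset.sum_const,
        nsmul_eq_mul, hfib _ (Finset.filter_subset _ _) (fun q c hc => ?_), zero_mul]
      simp only [Finset.mem_filter] at hc ⊢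
      refine ⟨hKconj q c hc.1, ?_⟩
      rw [← hc.2]
      have hmem : c⁻¹ * (q : G)⁻¹ * c ∈ Q := by
        simpa using hQn.conj_mem _ (Q.inv_mem q.2) c⁻¹
      calc f (((q : G) * c * (q : G)⁻¹)⁻¹ * x)
          = f ((q : G) * ((c⁻¹ * (q : G)⁻¹ * c) * (c⁻¹ * x))) := by congr 1; group
        _ = f (c⁻¹ * x) := by rw [hfQ q]; exact hfQ ⟨_, hmem⟩ _
  rw [show ((Subgroup.centralizer ({g} : Set G)).index : k) =
    residue M ((Subgroup.centralizer ({g} : Set G)).index : localRing M) from
    (map_natCast _ _).symm, residue_eq_iff] at hres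
  simpa using hres

end Cfsg.Agent.Lib.BlockCongr
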